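import Cfsg.Agent.Lib.L34Cover.Model
import Cfsg.Agent.Lib.PSL2.PGLHom
import Cfsg.Agent.Lib.Coprime.Gaschutz

/-!
Coverings of `PSL₃(4)` by central elementary abelian 2-groups: the preimages of the subgroups `E₁₆`
are elementary abelian and their normalisers split.
-/

set_option autoImplicit false
set_option linter.style.haveILetI false

namespace Cfsg.Agent.L34Cover

open SylL34
open scoped MatrixGroups

variable {X : Type*} [Group X] [Finite X]

omit [Finite X] in
theorem conj_central {c : X} (hc : c ∈ Subgroup.center X) (n : X) : n⁻¹ * c * n = c := by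
  rw [mul_assoc, ← Subgroup.mem_center_iff.1 hc n, ← mul_assoc, inv_mul_cancel, one_mul]

omit [Finite X] in
/-- The preimage of `Arow` in a central covering by an elementary 2-group has exponent 2. -/
theorem sq_eq_one (P : X →* G) (hP : Function.Surjective P) (hZc : P.ker ≤ Subgroup.center X)
    (hZ2 : ∀ z ∈ P.ker, z * z = 1) : ∀ h ∈ Arow.comap P, h * h = 1 := by
  obtain ⟨h0, hh0⟩ := hP (u (0, 1, 0))
  have hsqker : ∀ h, P h ∈ Arow → h * h ∈ P.ker := by
    rintro h ⟨b, c, e⟩
    rw [MonoidHom.mem_ker, map_mul, ← e, u_mul, ← u_zero]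
    exact congrArg u (Prod.ext (by simp) (Prod.ext (char_two b) (by simp [char_two])))
  have hh0A : P h0 ∈ Arow := hh0 ▸ mem_Arow.2 rfl
  have hconst : ∀ h, P h ∈ Arow → P h ≠ 1 → h * h = h0 * h0 := by
    intro h hA h1
    obtain ⟨q, -, hq⟩ := transitive hA h1
    obtain ⟨n, rfl⟩ := hP q
    obtain ⟨z, hz, rfl⟩ : ∃ z ∈ P.ker, n⁻¹ * h0 * n * z = h := ⟨(n⁻¹ * h0 * n)⁻¹ * h, by
      rw [MonoidHom.mem_ker, map_mul, map_inv, map_mul, map_mul, map_inv, hh0, hq, inv_mul_cancel], by group⟩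
    have hc := Subgroup.mem_center_iff.1 (hZc hz)
    calc n⁻¹ * h0 * n * z * (n⁻¹ * h0 * n * z) = n⁻¹ * h0 * n * (z * (n⁻¹ * h0 * n)) * z := by group
      _ = n⁻¹ * h0 * n * (n⁻¹ * h0 * n * z) * z := by rw [← hc (n⁻¹ * h0 * n)]
      _ = n⁻¹ * (h0 * h0) * n * (z * z) := by group
      _ = h0 * h0 := by rw [hZ2 z hz, mul_one, conj_central (hZc (hsqker h0 hh0A))]
  have hc1 : h0 * h0 = 1 := by
    obtain ⟨k, hk⟩ := hP (u (0, 0, 1))
    obtain ⟨l, hl⟩ := hP (u (0, ⟨false, true⟩, 0))
    have hkA : P k ∈ Arow := hk ▸ mem_Arow.2 rfl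
    have hlA : P l ∈ Arow := hl ▸ mem_Arow.2 rfl
    set c := h0 * h0 with hcdef
    have hcz := hsqker h0 hh0A
    have hcc : c * c = 1 := hZ2 c hcz
    have hne : ∀ b c : F4, ¬ (b = 0 ∧ c = 0) → ∀ g, P g = u (0, b, c) → P g ∈ Arow ∧ P g ≠ 1 :=
      fun b c hbc g e => ⟨e ▸ mem_Arow.2 rfl, fun h1 => hbc (by
        have := u_injective (e.symm.trans (h1.trans u_zero.symm))
        simpa using this)⟩
    have hu : ∀ g g', P g ∈ Arow → P g' ∈ Arow → P g ≠ 1 → P g' ≠ 1 → P (g * g') ≠ 1 →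
        g * g' = c * (g' * g) := by
      intro g g' hg hg' h1 h1' h2
      have hgg' : g * g' * (g * g') = c := hconst _ (by rw [map_mul]; exact mul_mem hg hg') h2
      have hcen := Subgroup.mem_center_iff.1 (hZc hcz)
      have hi : g⁻¹ = g * c := inv_eq_of_mul_eq_one_right (by rw [← mul_assoc, hconst g hg h1, hcc])
      have hi' : g'⁻¹ = g' * c := inv_eq_of_mul_eq_one_right (by rw [← mul_assoc, hconst g' hg' h1', hcc])
      calc g * g' = g * g' * (g * g') * (g'⁻¹ * g⁻¹) := by group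
        _ = c * (g' * c * (g * c)) := by rw [hgg', hi, hi']
        _ = c * (c * g' * (c * g)) := by rw [hcen g', hcen g]
        _ = c * (c * (g' * c) * g) := by group
        _ = c * (c * (c * g') * g) := by rw [hcen g']
        _ = c * c * c * (g' * g) := by group
        _ = c * (g' * g) := by rw [hcc, one_mul]
    have A1 := hne 1 0 (by decide) h0 hh0
    have A2 := hne 0 1 (by decide) k hk
    have A3 := hne ⟨false, true⟩ 0 (by decide) l hl
    have A12 := hne 1 1 (by decide) (h0 * k) (by rw [map_mul, hh0, hk, u_mul]; exact congrArg u (by decide))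
    have A31 := hne (1 + ⟨false, true⟩) 0 (by decide) (l * h0) (by rw [map_mul, hl, hh0, u_mul]; exact congrArg u (by decide))
    have A32 := hne ⟨false, true⟩ 1 (by decide) (l * k) (by rw [map_mul, hl, hk, u_mul]; exact congrArg u (by decide))
    have A312 := hne (1 + ⟨false, true⟩) 1 (by decide) (l * (h0 * k))
      (by rw [map_mul, map_mul, hl, hh0, hk, u_mul, u_mul]; exact congrArg u (by decide))
    have e1 := hu l h0 hlA hh0A A3.2 A1.2 A31.2
    have e2 := hu l k hlA hkA A3.2 A2.2 A32.2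
    have e3 := hu l (h0 * k) hlA A12.1 A3.2 A12.2 A312.2
    have hcen := Subgroup.mem_center_iff.1 (hZc hcz)
    have e4 : l * (h0 * k) = c * c * (h0 * k * l) := by
      calc l * (h0 * k) = l * h0 * k := (mul_assoc _ _ _).symm
        _ = c * h0 * (l * k) := by rw [e1]; group
        _ = c * h0 * (c * (k * l)) := by rw [e2]
        _ = c * (h0 * c) * (k * l) := by group
        _ = c * (c * h0) * (k * l) := by rw [hcen]
        _ = c * c * (h0 * k * l) := by group
    rw [e3, hcc, one_mul] at e4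
    exact mul_eq_right.1 e4
  intro h hh
  by_cases h1 : P h = 1
  · exact hZ2 h h1
  · rw [hconst h hh h1, hc1]

theorem center_SL_two : Subgroup.center SL(2, F4) = ⊥ := by
  rw [Subgroup.eq_bot_iff_forall]
  intro z hz
  obtain ⟨r, hr, h⟩ := Matrix.SpecialLinearGroup.mem_center_iff.mp hz
  have key : ∀ r : F4, r * r = 1 → r = 1 := by decide
  have hr1 : r = 1 := key r (by simpa [pow_two] using hr)
  exact Subtype.ext (by rw [← h, hr1, map_one, Matrix.SpecialLinearGroup.coe_one])

/-- The normaliser of the preimage of `Arow` splits, with complement `PSL₂(4)`. -/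
theorem exists_complement (P : X →* G) (hP : Function.Surjective P) {F : Type*} [Field F] [Fintype F]
    (hF : Fintype.card F = 4) (hH2 : ∀ h ∈ Arow.comap P, h * h = 1)
    (W : Subgroup X) (hW : W ≤ Subgroup.normalizer (Arow.comap P : Set X))
    (hWd : W ⊓ Arow.comap P = ⊥) (hodd : ¬ 2 ∣ (Arow.comap P ⊔ W).index) :
    ∃ C : Subgroup X, C ≤ Subgroup.normalizer (Arow.comap P : Set X) ∧ C ⊓ Arow.comap P = ⊥ ∧
      Arow.comap P ⊔ C = Subgroup.normalizer (Arow.comap P : Set X) ∧
      Nonempty (↥C ≃* Matrix.ProjectiveSpecialLinearGroup (Fin 2) F) := by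
  haveI : Fact (Nat.Prime 2) := ⟨Nat.prime_two⟩
  set H := Arow.comap P with hHdef
  set N := Subgroup.normalizer (H : Set X) with hNdef
  have hN : N = (Subgroup.normalizer (Arow : Set G)).comap P := by
    rw [hNdef, hHdef, Subgroup.comap_normalizer_eq_of_surjective _ hP]
  have hHN : H ≤ N := Subgroup.le_normalizer
  haveI hKn : (H.subgroupOf N).Normal := Subgroup.normal_subgroupOf_iff_le_normalizer hHN |>.2 le_rfl
  have hKcomm : IsMulCommutative (H.subgroupOf N) := ⟨⟨fun a b => Subtype.ext (Subtype.ext (by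
    have hc : ∀ x ∈ H, ∀ y ∈ H, x * y = y * x := fun x hx y hy => by
      have h := hH2 _ (mul_mem hx hy)
      calc x * y = (x * y)⁻¹ := (inv_eq_of_mul_eq_one_right h).symm
        _ = y * x := by rw [mul_inv_rev, inv_eq_of_mul_eq_one_right (hH2 x hx), inv_eq_of_mul_eq_one_right (hH2 y hy)]
    exact hc _ a.2 _ b.2))⟩⟩
  have hcop : (Nat.card (H.subgroupOf N)).Coprime ((H ⊔ W).subgroupOf N).index := by
    have hH : IsPGroup 2 H := fun x => ⟨1, Subtype.ext (by rw [pow_one, pow_two]; exact hH2 x x.2)⟩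
    obtain ⟨k, hk⟩ := IsPGroup.iff_card.1 hH
    rw [Nat.card_congr (Subgroup.subgroupOfEquivOfLe hHN).toEquiv, hk]
    refine Nat.Coprime.pow_left k ((Nat.prime_two.coprime_iff_not_dvd).2 fun h => hodd ?_)
    have hm := Subgroup.relIndex_mul_index (sup_le hHN hW : H ⊔ W ≤ N)
    rw [← hm]
    exact h.mul_right _
  obtain ⟨C, hC⟩ := Coprime.exists_complement_of_gaschutz (K := H.subgroupOf N) (U := (H ⊔ W).subgroupOf N)
    (fun x hx => Subgroup.mem_sup_left (S := H) (T := W) hx) hcop (W.subgroupOf N)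
    (fun x hx => Subgroup.mem_sup_right (S := H) (T := W) hx)
    (by
      rw [Subgroup.eq_bot_iff_forall]
      intro x hx
      have : (x : X) ∈ W ⊓ H := ⟨hx.1, hx.2⟩
      rw [hWd, Subgroup.mem_bot] at this
      exact Subtype.ext this)
    (by rw [Subgroup.subgroupOf_sup hHN hW])
  obtain ⟨π, hπ, hπker⟩ := levi_hom
  have hmem : ∀ x : C, P (x.1 : X) ∈ Subgroup.normalizer (Arow : Set G) := fun x => by
    have hx : ((x.1 : N) : X) ∈ (Subgroup.normalizer (Arow : Set G)).comap P := hN ▸ x.1.2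
    exact hx
  let f : C →* SL(2, F4) := π.comp ((P.comp (N.subtype.comp C.subtype)).codRestrict _ hmem)
  have hbij : Function.Bijective f := by
    refine ⟨(injective_iff_map_eq_one f).2 fun x hx => ?_, fun B => ?_⟩
    · have h1 : x.1 ∈ H.subgroupOf N := (hπker _).1 hx
      have : x.1 ∈ H.subgroupOf N ⊓ C := ⟨h1, x.2⟩
      rw [hC.disjoint.eq_bot, Subgroup.mem_bot] at this
      exact Subtype.ext this
    · obtain ⟨⟨q, hq⟩, rfl⟩ := hπ B
      obtain ⟨n, rfl⟩ := hP q
      have hn : n ∈ N := by rw [hN]; exact hq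
      obtain ⟨⟨a, c⟩, hac, -⟩ := hC.existsUnique ⟨n, hn⟩
      refine ⟨⟨c.1, c.2⟩, ?_⟩
      have e : n = (a.1 : X) * (c.1 : X) := (congrArg Subtype.val hac).symm
      have ha : P (a.1 : X) ∈ Subgroup.normalizer (Arow : Set G) := Subgroup.le_normalizer (show P (a.1 : X) ∈ Arow from a.2)
      have hpa : π ⟨P (a.1 : X), ha⟩ = 1 := (hπker _).2 a.2
      calc f ⟨c.1, c.2⟩ = π ⟨P (a.1 : X), ha⟩ * f ⟨c.1, c.2⟩ := by rw [hpa, one_mul]
        _ = π ⟨P n, hq⟩ := by
            show π _ * π _ = _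
            rw [← map_mul]
            exact congrArg π (Subtype.ext ((map_mul P (a.1 : X) (c.1 : X)).symm.trans (congrArg P e.symm)))
  let e1 : SL(2, F4) ≃* Matrix.ProjectiveSpecialLinearGroup (Fin 2) F4 :=
    QuotientGroup.quotientBot.symm.trans (QuotientGroup.quotientMulEquivOfEq center_SL_two.symm)
  have e2 : F4 ≃+* F := FiniteField.ringEquivOfCardEq (by rw [hF, card_F4])
  refine ⟨C.map N.subtype, Subgroup.map_subtype_le _, ?_, ?_, ⟨(Subgroup.equivMapOfInjective C N.subtype
    N.subtype_injective).symm.trans ((MulEquiv.ofBijective f hbij).trans (e1.trans (PSL2.pslCongr e2)))⟩⟩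
  · rw [Subgroup.eq_bot_iff_forall]
    rintro _ ⟨⟨x, hxC, rfl⟩, hxH⟩
    have : x ∈ H.subgroupOf N ⊓ C := ⟨hxH, hxC⟩
    rw [hC.disjoint.eq_bot, Subgroup.mem_bot] at this
    rw [this]; rfl
  · have := congrArg (Subgroup.map N.subtype) hC.sup_eq_top
    rwa [Subgroup.map_sup, Subgroup.map_subgroupOf_eq_of_le hHN, ← MonoidHom.range_eq_map, Subgroup.range_subtype] at this

end Cfsg.Agent.L34Cover
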