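import Cfsg.Agent.Lib.SylL34.L34
import Cfsg.Agent.Lib.GL.Basic

/-!
A Sylow 2-subgroup of `PSL₃(4)`, its two elementary abelian subgroups of order 16 and their
normalisers.
-/

set_option autoImplicit false
set_option linter.style.haveILetI false

namespace Cfsg.Agent.L34Cover

open Matrix SylL34
open scoped MatrixGroups

/-- `SL₃(4)`. -/
abbrev S3 := Matrix.SpecialLinearGroup (Fin 3) F4

/-- `PSL₃(4)`. -/
abbrev G := Matrix.ProjectiveSpecialLinearGroup (Fin 3) F4

/-- The projection. -/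
def mk : S3 →* G := QuotientGroup.mk' _

theorem mk_surjective : Function.Surjective mk := QuotientGroup.mk'_surjective _

/-- A central element is a scalar. -/
theorem exists_scalar {z : S3} (hz : z ∈ Subgroup.center S3) :
    ∃ r : F4, r ^ 3 = 1 ∧ (z : Matrix (Fin 3) (Fin 3) F4) = Matrix.scalar (Fin 3) r := by
  obtain ⟨r, hr, h⟩ := Matrix.SpecialLinearGroup.mem_center_iff.mp hz
  exact ⟨r, by simpa using hr, h.symm⟩

theorem uMat_zero : uMat (0, 0, 0) = 1 := by
  refine Subtype.ext ?_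
  show !![1, (0 : F4), 0; 0, 1, 0; 0, 0, 1] = 1
  exact Matrix.one_fin_three.symm

theorem uMat_injective : Function.Injective uMat := by
  intro p q h
  have h01 := congrArg (fun g : S3 => (g : Matrix (Fin 3) (Fin 3) F4) 0 1) h
  have h02 := congrArg (fun g : S3 => (g : Matrix (Fin 3) (Fin 3) F4) 0 2) h
  have h12 := congrArg (fun g : S3 => (g : Matrix (Fin 3) (Fin 3) F4) 1 2) h
  simp [uMat] at h01 h02 h12
  exact Prod.ext h12 (Prod.ext h01 h02)

/-- The unitriangular element with entries `(a, b, c)` in `PSL₃(4)`. -/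
def u (p : F4 × F4 × F4) : G := mk (uMat p)

theorem u_mul (p q : F4 × F4 × F4) :
    u p * u q = u (p.1 + q.1, p.2.1 + q.2.1, p.2.2 + q.2.2 + p.2.1 * q.1) := by
  rw [u, u, u, ← map_mul, uMat_mul]

theorem u_zero : u (0, 0, 0) = 1 := by rw [u, uMat_zero, map_one]

theorem u_injective : Function.Injective u := by
  intro p q h
  obtain ⟨z, hz, e⟩ := (QuotientGroup.mk'_eq_mk' _).1 h
  obtain ⟨r, -, hr⟩ := exists_scalar hz
  have h00 := congrArg (fun g : S3 => (g : Matrix (Fin 3) (Fin 3) F4) 0 0) e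
  rw [Matrix.SpecialLinearGroup.coe_mul, hr] at h00
  simp [uMat, Matrix.scalar_apply, Matrix.mul_diagonal] at h00
  refine uMat_injective ?_
  rw [← e, show z = 1 from Subtype.ext (by rw [hr, h00, map_one, Matrix.SpecialLinearGroup.coe_one]), mul_one]

theorem char_two : ∀ a : F4, a + a = 0 := by decide

theorem u_inv (p : F4 × F4 × F4) : (u p)⁻¹ = u (p.1, p.2.1, p.2.2 + p.2.1 * p.1) := by
  refine inv_eq_of_mul_eq_one_right ?_
  rw [u_mul, ← u_zero]
  congr 1
  refine Prod.ext (char_two _) (Prod.ext (char_two _) ?_)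
  show p.2.2 + (p.2.2 + p.2.1 * p.1) + p.2.1 * p.1 = 0
  rw [← add_assoc, char_two, zero_add, char_two]

theorem u_comm_iff (p q : F4 × F4 × F4) : u p * u q = u q * u p ↔ p.2.1 * q.1 = q.2.1 * p.1 := by
  rw [u_mul, u_mul, u_injective.eq_iff, add_comm q.1 p.1, add_comm q.2.1 p.2.1, add_comm q.2.2 p.2.2,
    Prod.ext_iff, Prod.ext_iff]
  simp

/-- The unitriangular subgroup. -/
def U : Subgroup G where
  carrier := Set.range u
  one_mem' := ⟨_, u_zero⟩
  mul_mem' := by rintro _ _ ⟨p, rfl⟩ ⟨q, rfl⟩; exact ⟨_, (u_mul p q).symm⟩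
  inv_mem' := by rintro _ ⟨p, rfl⟩; exact ⟨_, (u_inv p).symm⟩

/-- The first elementary abelian subgroup of order 16. -/
def Arow : Subgroup G where
  carrier := {g | ∃ b c, u (0, b, c) = g}
  one_mem' := ⟨0, 0, u_zero⟩
  mul_mem' := by
    rintro _ _ ⟨b, c, rfl⟩ ⟨b', c', rfl⟩
    exact ⟨b + b', c + c', by rw [u_mul]; simp⟩
  inv_mem' := by
    rintro _ ⟨b, c, rfl⟩
    exact ⟨b, c, by rw [u_inv]; simp⟩

/-- The second elementary abelian subgroup of order 16. -/
def Acol : Subgroup G where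
  carrier := {g | ∃ a c, u (a, 0, c) = g}
  one_mem' := ⟨0, 0, u_zero⟩
  mul_mem' := by
    rintro _ _ ⟨b, c, rfl⟩ ⟨b', c', rfl⟩
    exact ⟨b + b', c + c', by rw [u_mul]; simp⟩
  inv_mem' := by
    rintro _ ⟨b, c, rfl⟩
    exact ⟨b, c, by rw [u_inv]; simp⟩

theorem mem_Arow {p : F4 × F4 × F4} : u p ∈ Arow ↔ p.1 = 0 := by
  refine ⟨fun ⟨b, c, h⟩ => ?_, fun h => ⟨p.2.1, p.2.2, by rw [← h]⟩⟩
  rw [← u_injective h]

theorem mem_Acol {p : F4 × F4 × F4} : u p ∈ Acol ↔ p.2.1 = 0 := by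
  refine ⟨fun ⟨b, c, h⟩ => ?_, fun h => ⟨p.1, p.2.2, by rw [← h]⟩⟩
  rw [← u_injective h]

theorem Arow_le : Arow ≤ U := by rintro _ ⟨b, c, rfl⟩; exact ⟨_, rfl⟩
theorem Acol_le : Acol ≤ U := by rintro _ ⟨b, c, rfl⟩; exact ⟨_, rfl⟩

theorem card_pair (f : F4 × F4 → G) (hf : Function.Injective f) : Nat.card (Set.range f) = 16 := by
  rw [Nat.card_congr (Equiv.ofInjective f hf).symm, Nat.card_prod, Nat.card_eq_fintype_card, card_F4]

theorem card_Arow : Nat.card Arow = 16 := by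
  have hs : (Arow : Set G) = Set.range (fun bc : F4 × F4 => u (0, bc.1, bc.2)) := by
    ext g; exact ⟨fun ⟨b, c, h⟩ => ⟨(b, c), h⟩, fun ⟨(b, c), h⟩ => ⟨b, c, h⟩⟩
  rw [← SetLike.coe_sort_coe, hs]
  exact card_pair _ fun x y h => by
    have := u_injective h; simpa [Prod.ext_iff] using this

theorem card_Acol : Nat.card Acol = 16 := by
  have hs : (Acol : Set G) = Set.range (fun bc : F4 × F4 => u (bc.1, 0, bc.2)) := by
    ext g; exact ⟨fun ⟨b, c, h⟩ => ⟨(b, c), h⟩, fun ⟨(b, c), h⟩ => ⟨b, c, h⟩⟩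
  rw [← SetLike.coe_sort_coe, hs]
  exact card_pair _ fun x y h => by
    have := u_injective h; simpa [Prod.ext_iff] using this

theorem card_U : Nat.card U = 64 := by
  rw [← SetLike.coe_sort_coe, show (U : Set G) = Set.range u from rfl,
    Nat.card_congr (Equiv.ofInjective u u_injective).symm, Nat.card_prod, Nat.card_prod,
    Nat.card_eq_fintype_card, card_F4]

theorem card_G : Nat.card G = 20160 := by
  have := GL.gcd_mul_card_PSL (F := F4) 3 (by norm_num)
  rw [GL.card_SL_prod, card_F4, show Finset.Ico 2 (3 + 1) = ({2, 3} : Finset ℕ) from rfl,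
    show Nat.gcd 3 (4 - 1) = 3 by decide] at this
  norm_num at this
  rw [← Nat.card_eq_fintype_card] at this
  have h60 : (60480 : ℕ) = 3 * 20160 := by norm_num
  rw [h60] at this
  exact Nat.eq_of_mul_eq_mul_left (by norm_num : 0 < 3) this

theorem exists_sylow : ∃ S : Sylow 2 G, (S : Subgroup G) = U := by
  haveI : Fact (Nat.Prime 2) := ⟨Nat.prime_two⟩
  have hfac : (Nat.card G).factorization 2 = 6 := by
    rw [card_G, show (20160 : ℕ) = 2 ^ 6 * 315 by norm_num, Nat.factorization_mul (by norm_num) (by norm_num),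
      Nat.Prime.factorization_pow Nat.prime_two, Finsupp.add_apply, Finsupp.single_eq_same,
      Nat.factorization_eq_zero_of_not_dvd (by norm_num : ¬ 2 ∣ 315)]
  exact ⟨Sylow.ofCard U (by rw [card_U, hfac]; norm_num), rfl⟩

/-- The elementary abelian subgroups of order 16 of the Sylow subgroup. -/
theorem classify (A : Subgroup G) (hA : A ≤ U) (hexp : ∀ a ∈ A, a * a = 1) (h16 : Nat.card A = 16) :
    A = Arow ∨ A = Acol := by
  have hsq : ∀ p, u p ∈ A → p.2.1 = 0 ∨ p.1 = 0 := fun p hp => by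
    have h := hexp _ hp
    rw [u_mul, ← u_zero, u_injective.eq_iff, Prod.ext_iff, Prod.ext_iff] at h
    obtain ⟨-, -, h3⟩ := h
    simp only [char_two, zero_add] at h3
    exact mul_eq_zero.1 h3
  by_cases hrow : A ≤ Arow
  · exact Or.inl (Subgroup.eq_of_le_of_card_ge hrow (by rw [h16, card_Arow]))
  · right
    refine Subgroup.eq_of_le_of_card_ge (fun g hg => ?_) (by rw [h16, card_Acol])
    obtain ⟨p, rfl⟩ := hA hg
    rw [mem_Acol]
    obtain ⟨g', hg', hgn⟩ := SetLike.not_le_iff_exists.1 hrow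
    obtain ⟨q, rfl⟩ := hA hg'
    rw [mem_Arow] at hgn
    have hq : q.2.1 = 0 := (hsq q hg').resolve_right hgn
    by_contra hp
    have hp' : p.1 = 0 := (hsq p hg).resolve_left hp
    have hm := mul_mem hg' hg
    rw [u_mul] at hm
    rcases hsq _ hm with h | h
    · simp [hq] at h; exact hp h
    · simp [hp'] at h; exact hgn h

theorem Arow_ne_Acol : Arow ≠ Acol := fun h => by
  have h1 : u (0, 1, 0) ∈ Arow := mem_Arow.2 rfl
  rw [h, mem_Acol] at h1
  exact one_ne_zero h1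

/-- What the two subgroups have to satisfy. -/
def PairFacts (A B : Subgroup G) : Prop :=
  A ⊔ B = U ∧ Nat.card (A ⊓ B : Subgroup G) = 4 ∧
    (∀ t ∈ U, (∀ a ∈ A, t * a = a * t) → (∀ b ∈ B, t * b = b * t) → t ∈ A ⊓ B) ∧
    ∀ t ∈ U, ∀ a ∈ A, t * a * t⁻¹ ∈ A

theorem sup_eq : Arow ⊔ Acol = U := by
  refine le_antisymm (sup_le Arow_le Acol_le) ?_
  rintro _ ⟨⟨a, b, c⟩, rfl⟩
  have h : u (a, b, c) = u (0, b, c) * u (a, 0, b * a) := by
    rw [u_mul]
    refine congrArg u (Prod.ext (by simp) (Prod.ext (by simp) ?_))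
    show c = c + b * a + b * a
    rw [add_assoc, char_two, add_zero]
  rw [h]
  exact Subgroup.mul_mem_sup ⟨b, c, rfl⟩ ⟨a, b * a, rfl⟩

theorem card_inf : Nat.card (Arow ⊓ Acol : Subgroup G) = 4 := by
  have hs : ((Arow ⊓ Acol : Subgroup G) : Set G) = Set.range (fun c : F4 => u (0, 0, c)) := by
    ext g
    constructor
    · rintro ⟨⟨b, c, rfl⟩, hc⟩
      obtain rfl : b = 0 := mem_Acol.1 hc
      exact ⟨c, rfl⟩
    · rintro ⟨c, rfl⟩
      exact ⟨mem_Arow.2 rfl, mem_Acol.2 rfl⟩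
  rw [← SetLike.coe_sort_coe, hs, Nat.card_congr (Equiv.ofInjective _ ?_).symm, Nat.card_eq_fintype_card, card_F4]
  intro x y h
  have := u_injective h
  simpa [Prod.ext_iff] using this

theorem central_mem {t : G} (ht : t ∈ U) (h1 : ∀ a ∈ Arow, t * a = a * t) (h2 : ∀ a ∈ Acol, t * a = a * t) :
    t ∈ Arow ⊓ Acol := by
  obtain ⟨p, rfl⟩ := ht
  have e1 := (u_comm_iff p (0, 1, 0)).1 (h1 _ (mem_Arow.2 rfl))
  have e2 := (u_comm_iff p (1, 0, 0)).1 (h2 _ (mem_Acol.2 rfl))
  simp at e1 e2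
  exact ⟨mem_Arow.2 e1.symm, mem_Acol.2 e2⟩

theorem conj_mem {t a : G} (ht : t ∈ U) :
    (a ∈ Arow → t * a * t⁻¹ ∈ Arow) ∧ (a ∈ Acol → t * a * t⁻¹ ∈ Acol) := by
  obtain ⟨p, rfl⟩ := ht
  constructor
  · rintro ⟨b, c, rfl⟩
    rw [u_inv, u_mul, u_mul, mem_Arow]
    simp [char_two]
  · rintro ⟨b, c, rfl⟩
    rw [u_inv, u_mul, u_mul, mem_Acol]
    simp [char_two]

theorem pairFacts {A B : Subgroup G} (hA : A = Arow ∨ A = Acol) (hB : B = Arow ∨ B = Acol) (hne : A ≠ B) :
    PairFacts A B := by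
  rcases hA with rfl | rfl <;> rcases hB with rfl | rfl
  · exact absurd rfl hne
  · exact ⟨sup_eq, card_inf, fun t ht => central_mem ht, fun t ht a ha => (conj_mem ht).1 ha⟩
  · exact ⟨sup_comm Arow Acol ▸ sup_eq, inf_comm Arow Acol ▸ card_inf,
      fun t ht h h' => inf_comm Arow Acol ▸ central_mem ht h' h, fun t ht a ha => (conj_mem ht).2 ha⟩
  · exact absurd rfl hne

/-! ### The graph automorphism -/

/-- Inverse transpose followed by reversal of the basis. -/
def thetaFun (g : S3) : S3 :=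
  ⟨((g⁻¹ : S3) : Matrix (Fin 3) (Fin 3) F4).transpose.submatrix Fin.revPerm Fin.revPerm,
    by rw [Matrix.det_submatrix_equiv_self, Matrix.det_transpose]; exact (g⁻¹).2⟩

theorem thetaFun_mul (g h : S3) : thetaFun (g * h) = thetaFun g * thetaFun h := by
  refine Subtype.ext ?_
  show ((g * h)⁻¹ : S3).1.transpose.submatrix _ _ = _ * _
  rw [_root_.mul_inv_rev, Matrix.SpecialLinearGroup.coe_mul, Matrix.transpose_mul]
  exact (Matrix.submatrix_mul_equiv _ _ _ Fin.revPerm _).symm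

theorem thetaFun_injective : Function.Injective thetaFun := by
  intro g h e
  refine inv_injective (Subtype.ext ?_)
  ext i j
  have := congrArg (fun m : S3 => (m : Matrix (Fin 3) (Fin 3) F4) (Fin.revPerm j) (Fin.revPerm i)) e
  simpa [thetaFun, Fin.rev_rev] using this

/-- The graph automorphism of `SL₃(4)`. -/
noncomputable def theta : S3 ≃* S3 :=
  MulEquiv.ofBijective (MonoidHom.mk' thetaFun thetaFun_mul)
    (Finite.injective_iff_bijective.1 thetaFun_injective)

theorem map_center {H K : Type*} [Group H] [Group K] (e : H ≃* K) :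
    (Subgroup.center H).map (e : H →* K) = Subgroup.center K := by
  ext k
  rw [show (e : H →* K) = e.toMonoidHom from rfl, Subgroup.mem_map_equiv, Subgroup.mem_center_iff,
    Subgroup.mem_center_iff]
  constructor
  · intro h x
    have := congrArg e (h (e.symm x))
    simpa using this
  · intro h x
    have := congrArg e.symm (h (e x))
    simpa using this

/-- The graph automorphism of `PSL₃(4)`. -/
noncomputable def thetaBar : G ≃* G := QuotientGroup.congr _ _ theta (map_center theta)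

theorem thetaBar_u (p : F4 × F4 × F4) : thetaBar (u p) = u (p.2.1, p.1, p.2.2 + p.2.1 * p.1) := by
  show mk (thetaFun (uMat p)) = mk (uMat _)
  congr 1
  have hinv : (uMat p)⁻¹ = uMat (p.1, p.2.1, p.2.2 + p.2.1 * p.1) := by
    refine inv_eq_of_mul_eq_one_right ?_
    rw [uMat_mul, ← uMat_zero]
    congr 1
    refine Prod.ext (char_two _) (Prod.ext (char_two _) ?_)
    show p.2.2 + (p.2.2 + p.2.1 * p.1) + p.2.1 * p.1 = 0
    rw [← add_assoc, char_two, zero_add, char_two]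
  refine Subtype.ext ?_
  show ((uMat p)⁻¹ : S3).1.transpose.submatrix Fin.revPerm Fin.revPerm = _
  rw [hinv]
  ext i j
  fin_cases i <;> fin_cases j <;> rfl

theorem map_thetaBar_Acol : Acol.map thetaBar.toMonoidHom = Arow := by
  refine Subgroup.eq_of_le_of_card_ge ?_ ?_
  · rintro _ ⟨_, ⟨a, c, rfl⟩, rfl⟩
    show thetaBar (u (a, 0, c)) ∈ Arow
    rw [thetaBar_u, mem_Arow]
  · rw [Subgroup.card_map_of_injective (f := thetaBar.toMonoidHom) thetaBar.injective, card_Acol, card_Arow]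

/-! ### The normaliser of `Arow` -/

/-- The stabiliser of the line of the first basis vector. -/
def Pm : Subgroup S3 where
  carrier := {g | g.1 1 0 = 0 ∧ g.1 2 0 = 0}
  one_mem' := by simp
  mul_mem' := fun {g h} hg hh => by
    simp [Matrix.mul_apply, Fin.sum_univ_three, hg.1, hg.2, hh.1, hh.2]
  inv_mem' := fun {g} hg => by
    simp [Matrix.SpecialLinearGroup.coe_inv, Matrix.adjugate_fin_three, hg.1, hg.2]

theorem corner_ne_zero (g : Pm) : g.1.1 0 0 ≠ 0 := fun h => by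
  have hd := g.1.2
  rw [Matrix.det_fin_three, h, g.2.1, g.2.2] at hd
  simp at hd

theorem block_det (g : Pm) : g.1.1 0 0 * (g.1.1 1 1 * g.1.1 2 2 - g.1.1 1 2 * g.1.1 2 1) = 1 := by
  have hd := g.1.2
  rw [Matrix.det_fin_three, g.2.1, g.2.2] at hd
  linear_combination hd

theorem scale_det : ∀ x y : F4, x * y = 1 → x * x * (x * x) * y = 1 := by decide

/-- The scaled Levi block. -/
def leviMat (m : Matrix (Fin 3) (Fin 3) F4) : Matrix (Fin 2) (Fin 2) F4 :=
  !![m 0 0 * m 0 0 * m 1 1, m 0 0 * m 0 0 * m 1 2; m 0 0 * m 0 0 * m 2 1, m 0 0 * m 0 0 * m 2 2]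

/-- The Levi quotient. -/
def levi : Pm →* SL(2, F4) where
  toFun g := ⟨leviMat g.1.1, by
    rw [leviMat, Matrix.det_fin_two_of]
    linear_combination scale_det _ _ (block_det g)⟩
  map_one' := by
    refine Subtype.ext ?_
    show leviMat 1 = 1
    simp [leviMat, Matrix.one_fin_two]
  map_mul' g h := by
    refine Subtype.ext ?_
    show leviMat (g.1.1 * h.1.1) = leviMat g.1.1 * leviMat h.1.1
    ext i j
    fin_cases i <;> fin_cases j <;>
      simp [leviMat, Matrix.mul_apply, Fin.sum_univ_three, g.2.1, g.2.2, h.2.1, h.2.2] <;> ring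

theorem levi_surjective : Function.Surjective levi := by
  intro B
  have hB := B.2
  rw [Matrix.det_fin_two] at hB
  let g : S3 := ⟨!![1, 0, 0; 0, B.1 0 0, B.1 0 1; 0, B.1 1 0, B.1 1 1], by
    rw [Matrix.det_fin_three]; simp; linear_combination hB⟩
  refine ⟨⟨g, by exact ⟨rfl, rfl⟩⟩, Subtype.ext ?_⟩
  show leviMat !![1, 0, 0; 0, B.1 0 0, B.1 0 1; 0, B.1 1 0, B.1 1 1] = B.1
  ext i j
  fin_cases i <;> fin_cases j <;> simp [leviMat]

theorem scale_one : ∀ x y : F4, x * x * y = 1 → y = x := by decide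
theorem scale_zero : ∀ x y : F4, x ≠ 0 → x * x * y = 0 → y = 0 := by decide

/-- The kernel of the Levi quotient. -/
theorem mem_of_levi {g : Pm} (h : levi g = 1) : mk g.1 ∈ Arow := by
  have e : ∀ i j, leviMat g.1.1 i j = (1 : Matrix (Fin 2) (Fin 2) F4) i j :=
    fun i j => congrFun (congrFun (congrArg Subtype.val h) i) j
  have h00 := e 0 0
  have h01 := e 0 1
  have h10 := e 1 0
  have h11 := e 1 1
  simp [leviMat] at h00 h01 h10 h11
  have hx := corner_ne_zero g
  set x := g.1.1 0 0 with hxdef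
  have a11 := scale_one _ _ h00
  have a22 := scale_one _ _ h11
  have a12 : g.1.1 1 2 = 0 := h01.resolve_left hx
  have a21 : g.1.1 2 1 = 0 := h10.resolve_left hx
  have hx3 : x ^ 3 = 1 := by
    have hd := block_det g
    rw [← hxdef, a11, a22, a12, a21] at hd
    linear_combination hd
  let z : S3 := ⟨Matrix.scalar (Fin 3) x, by simp [Matrix.det_diagonal, hx3]⟩
  have hz : z ∈ Subgroup.center S3 :=
    Matrix.SpecialLinearGroup.mem_center_iff.mpr ⟨x, by simpa using hx3, rfl⟩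
  refine ⟨x⁻¹ * g.1.1 0 1, x⁻¹ * g.1.1 0 2, (QuotientGroup.mk'_eq_mk' _).2 ⟨z, hz, Subtype.ext ?_⟩⟩
  show _ * (Matrix.scalar (Fin 3) x) = g.1.1
  ext i j
  fin_cases i <;> fin_cases j <;>
    simp [uMat, Matrix.scalar_apply, Matrix.mul_diagonal, g.2.1, g.2.2, a11, a22, a12, a21, ← hxdef] <;>
    field_simp

theorem levi_one_of_mem {g : Pm} (h : mk g.1 ∈ Arow) : levi g = 1 := by
  obtain ⟨b, c, hbc⟩ := h
  obtain ⟨z, hz, e⟩ := (QuotientGroup.mk'_eq_mk' _).1 hbc
  obtain ⟨r, hr3, hr⟩ := exists_scalar hz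
  have hr3' : r * r * r = 1 := by rw [← hr3]; ring
  refine Subtype.ext ?_
  show leviMat g.1.1 = 1
  rw [← e, Matrix.SpecialLinearGroup.coe_mul, hr]
  ext i j
  fin_cases i <;> fin_cases j <;> simp [leviMat, uMat, Matrix.scalar_apply, Matrix.mul_diagonal, hr3']

theorem Pm_le_normalizer {g : S3} (hg : g ∈ Pm) : mk g ∈ Subgroup.normalizer (Arow : Set G) := by
  have key : ∀ g ∈ Pm, ∀ a ∈ Arow, mk g * a * (mk g)⁻¹ ∈ Arow := by
    rintro g hg _ ⟨b, c, rfl⟩
    rw [u, ← map_inv, ← map_mul, ← map_mul]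
    have hM : g * uMat (0, b, c) * g⁻¹ ∈ Pm := mul_mem (mul_mem hg (by exact ⟨rfl, rfl⟩)) (inv_mem hg)
    set M : Matrix (Fin 3) (Fin 3) F4 := (g * uMat (0, b, c) * g⁻¹ : S3).1 with hMdef
    have hrow : ∀ i : Fin 3, i ≠ 0 → ∀ j, M i j = (1 : Matrix (Fin 3) (Fin 3) F4) i j := by
      intro i hi j
      have hgu : ∀ k, (g.1 * (uMat (0, b, c)).1) i k = g.1 i k := by
        intro k
        have hi0 : g.1 i 0 = 0 := by
          fin_cases i
          · exact absurd rfl hi
          · exact hg.1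
          · exact hg.2
        fin_cases k <;> simp [uMat, Matrix.mul_apply, Fin.sum_univ_three, hi0]
      calc M i j = ∑ k, (g.1 * (uMat (0, b, c)).1) i k * (g⁻¹ : S3).1 k j := rfl
        _ = ∑ k, g.1 i k * (g⁻¹ : S3).1 k j := Finset.sum_congr rfl fun k _ => by rw [hgu]
        _ = (g * g⁻¹ : S3).1 i j := rfl
        _ = _ := by rw [mul_inv_cancel]; rfl
    have h00 : M 0 0 = 1 := by
      have hd := (g * uMat (0, b, c) * g⁻¹ : S3).2
      rw [← hMdef, Matrix.det_fin_three, hrow 1 (by decide) 0, hrow 1 (by decide) 1, hrow 1 (by decide) 2,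
        hrow 2 (by decide) 0, hrow 2 (by decide) 1, hrow 2 (by decide) 2] at hd
      simpa using hd
    refine ⟨M 0 1, M 0 2, congrArg mk (Subtype.ext ?_)⟩
    rw [← hMdef]
    ext i j
    fin_cases i <;> fin_cases j <;> simp [uMat, h00, hrow]
  rw [Subgroup.mem_normalizer_iff]
  intro a
  refine ⟨key g hg a, fun h => ?_⟩
  have := key g⁻¹ (inv_mem hg) _ h
  simpa [map_inv, mul_assoc] using this

theorem sq_one_eq : ∀ r : F4, r * r = 1 → r = 1 := by decide

theorem normalizer_le {q : G} (hq : q ∈ Subgroup.normalizer (Arow : Set G)) : ∃ g ∈ Pm, mk g = q := by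
  obtain ⟨g, rfl⟩ := mk_surjective q
  refine ⟨g, ?_, rfl⟩
  have h := (Subgroup.mem_normalizer_iff.1 hq (u (0, 1, 0))).1 (mem_Arow.2 rfl)
  rw [u, ← map_inv, ← map_mul, ← map_mul] at h
  obtain ⟨b, c, hbc⟩ := h
  obtain ⟨z, hz, e⟩ := (QuotientGroup.mk'_eq_mk' _).1 hbc
  obtain ⟨r, -, hr⟩ := exists_scalar hz
  have hw : ∀ b c : F4, uMat (0, b, c) * uMat (0, b, c) = 1 := fun b c => by
    rw [uMat_mul, ← uMat_zero]
    exact congrArg uMat (Prod.ext (by simp) (Prod.ext (char_two b) (by simp [char_two])))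
  have hM2 : uMat (0, b, c) * z * (uMat (0, b, c) * z) = 1 := by
    rw [e]
    calc g * uMat (0, 1, 0) * g⁻¹ * (g * uMat (0, 1, 0) * g⁻¹) = g * (uMat (0, 1, 0) * uMat (0, 1, 0)) * g⁻¹ := by group
      _ = 1 := by rw [hw, mul_one, mul_inv_cancel]
  have hz2 : z * z = 1 := by
    have hc := Subgroup.mem_center_iff.1 hz (uMat (0, b, c))
    calc z * z = (uMat (0, b, c) * uMat (0, b, c)) * (z * z) := by rw [hw, one_mul]
      _ = uMat (0, b, c) * (uMat (0, b, c) * z) * z := by group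
      _ = uMat (0, b, c) * (z * uMat (0, b, c)) * z := by rw [hc]
      _ = 1 := by rw [← hM2]; group
  have hr1 : r = 1 := sq_one_eq r (by
    have := congrFun (congrFun (congrArg Subtype.val hz2) 0) 0
    simpa [hr, Matrix.scalar_apply] using this)
  have hz1 : z = 1 := Subtype.ext (by rw [hr, hr1, map_one]; rfl)
  rw [hz1, mul_one] at e
  have e' : g * uMat (0, 1, 0) = uMat (0, b, c) * g := by rw [e]; group
  have h1 := congrFun (congrFun (congrArg Subtype.val e') 1) 1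
  have h2 := congrFun (congrFun (congrArg Subtype.val e') 2) 1
  rw [Matrix.SpecialLinearGroup.coe_mul, Matrix.SpecialLinearGroup.coe_mul] at h1 h2
  simp [uMat, Matrix.mul_apply, Fin.sum_univ_three] at h1 h2
  exact ⟨h1, h2⟩

theorem levi_hom : ∃ π : ↥(Subgroup.normalizer (Arow : Set G)) →* SL(2, F4),
    Function.Surjective π ∧ ∀ n, π n = 1 ↔ (n : G) ∈ Arow := by
  let r : Pm →* ↥(Subgroup.normalizer (Arow : Set G)) :=
    (mk.comp Pm.subtype).codRestrict _ fun g => Pm_le_normalizer g.2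
  have hr : Function.Surjective r := fun q => by
    obtain ⟨g, hg, e⟩ := normalizer_le q.2
    exact ⟨⟨g, hg⟩, Subtype.ext e⟩
  have hk : r.ker ≤ levi.ker := fun g hg => by
    refine levi_one_of_mem ?_
    have : mk g.1 = 1 := congrArg Subtype.val hg
    rw [this]; exact one_mem _
  let π := r.liftOfSurjective hr ⟨levi, hk⟩
  have hπ : ∀ g, π (r g) = levi g := fun g => MonoidHom.liftOfRightInverse_comp_apply r _ _ ⟨levi, hk⟩ g
  refine ⟨π, fun B => ?_, fun n => ?_⟩
  · obtain ⟨g, rfl⟩ := levi_surjective B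
    exact ⟨r g, hπ g⟩
  · obtain ⟨g, rfl⟩ := hr n
    rw [hπ]
    exact ⟨mem_of_levi, levi_one_of_mem⟩

theorem transitive {a : G} (ha : a ∈ Arow) (ha1 : a ≠ 1) :
    ∃ n ∈ Subgroup.normalizer (Arow : Set G), n⁻¹ * u (0, 1, 0) * n = a := by
  obtain ⟨b, c, rfl⟩ := ha
  have key : ∀ b c : F4, ¬ (b = 0 ∧ c = 0) → ∃ d e : F4, b * e - c * d = 1 := by decide
  obtain ⟨d, e, hde⟩ := key b c fun ⟨h1, h2⟩ => ha1 (by rw [h1, h2, u_zero])
  let g : S3 := ⟨!![1, 0, 0; 0, b, c; 0, d, e], by rw [Matrix.det_fin_three]; simp; linear_combination hde⟩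
  refine ⟨mk g, Pm_le_normalizer (by exact ⟨rfl, rfl⟩), ?_⟩
  rw [mul_assoc, inv_mul_eq_iff_eq_mul, u, u, ← map_mul, ← map_mul]
  refine congrArg mk (Subtype.ext ?_)
  rw [Matrix.SpecialLinearGroup.coe_mul, Matrix.SpecialLinearGroup.coe_mul]
  ext i j
  fin_cases i <;> fin_cases j <;> simp [g, uMat, Matrix.mul_apply, Fin.sum_univ_three]

end Cfsg.Agent.L34Cover
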